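import Groth.Agent.Variety2.DimScheme
import Groth.Agent.Variety2.IrrFibres
import Mathlib.RingTheory.NoetherNormalization
import Mathlib.RingTheory.KrullDimension.Polynomial

/-!
# Dimension of schemes of finite type over a field via dense open subschemes and affine spaces
-/

set_option autoImplicit false
universe u

open CategoryTheory AlgebraicGeometry TopologicalSpace MvPolynomial

namespace Groth.Ega43Dim

variable {k : Type u} [Field k] {X : Scheme.{u}} (f : X ⟶ Spec (CommRingCat.of k))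
  [LocallyOfFiniteType f]

include f in
theorem dim_opens_of_dense [NoetherianSpace X] (U : X.Opens) (hU : Dense (U : Set X)) :
    topologicalKrullDim U.toScheme = topologicalKrullDim X := by
  rw [Groth.Variety2.Dim.dim_eq_iSup_height, Groth.Variety2.Dim.dim_eq_iSup_height]
  refine le_antisymm (iSup_le fun u => ?_) (iSup_le fun x => ?_)
  · rw [← Groth.Variety2.Dim.height_eq_of_isPreimmersion (U.ι ≫ f) f U.ι rfl u]
    exact le_iSup (fun x : X => ((Order.height x : ℕ∞) : WithBot ℕ∞)) _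
  · obtain ⟨Z, hZ, ξ, hξ, hmax, hsp⟩ := Groth.Variety2.Dim.exists_component_generic x
    obtain ⟨W, hξW, hW⟩ := Groth.Variety2.Dim.exists_open_subset_closure hmax
    obtain ⟨w, hwU, hwW⟩ : ((U : Set X) ∩ W).Nonempty := by
      simpa [Set.inter_comm] using hU.inter_open_nonempty _ W.2 ⟨ξ, hξW⟩
    have hξU : ξ ∈ U := (hW w hwW).mem_open U.2 hwU
    let ξ' : U.toScheme := ⟨ξ, hξU⟩
    refine le_trans ?_ (le_iSup (fun u : U.toScheme => ((Order.height u : ℕ∞) : WithBot ℕ∞)) ξ')
    show _ ≤ ((Order.height ξ' : ℕ∞) : WithBot ℕ∞)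
    rw [← Groth.Variety2.Dim.height_eq_of_isPreimmersion (U.ι ≫ f) f U.ι rfl ξ']
    exact WithBot.coe_le_coe.2 (Order.height_mono (Scheme.le_iff_specializes.2 hsp))

theorem exists_dense_affineOpen [NoetherianSpace X] :
    ∃ U : X.Opens, Dense (U : Set X) ∧ IsAffineOpen U := by
  classical
  have hfin : (irreducibleComponents X).Finite := NoetherianSpace.finite_irreducibleComponents
  have h : ∀ Z : irreducibleComponents X, ∃ U : X.Opens, IsAffineOpen U ∧
      ((U : Set X) ∩ Z.1).Nonempty ∧ ∀ Z' ∈ irreducibleComponents X, Z' ≠ Z.1 → Disjoint (U : Set X) Z' := by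
    rintro ⟨Z, hZ⟩
    obtain ⟨ξ, hξ, hmax⟩ := Groth.Variety2.Dim.exists_generic_of_component hZ
    have hc : IsClosed (⋃₀ (irreducibleComponents X \ {Z})) := by
      rw [Set.sUnion_eq_biUnion]
      exact (hfin.subset Set.sdiff_subset).isClosed_biUnion fun Z' hZ' =>
        isClosed_of_mem_irreducibleComponents Z' hZ'.1
    have hξn : ξ ∈ (⟨_, hc.isOpen_compl⟩ : X.Opens) := by
      rintro ⟨Z', ⟨hZ', hne⟩, hξZ'⟩
      have hsub : Z ⊆ Z' := by
        rw [← hξ.def]
        exact closure_minimal (Set.singleton_subset_iff.2 hξZ')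
          (isClosed_of_mem_irreducibleComponents Z' hZ')
      exact hne ((hZ.2 hZ'.1 hsub).antisymm hsub)
    obtain ⟨U, hU, hξU, hUV⟩ := exists_isAffineOpen_mem_and_subset hξn
    exact ⟨U, hU, ⟨ξ, hξU, hξ.mem⟩, fun Z' hZ' hne => Set.disjoint_left.2 fun z hz hz' =>
      hUV hz ⟨Z', ⟨hZ', hne⟩, hz'⟩⟩
  choose U hU hne hdisj using h
  have : Finite (irreducibleComponents X) := hfin.to_subtype
  refine ⟨⨆ Z, U Z, ?_, IsAffineOpen.iSup_of_disjoint hU ?_⟩
  · rw [dense_iff_inter_open]
    rintro O hO ⟨x, hx⟩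
    let Z : irreducibleComponents X :=
      ⟨irreducibleComponent x, irreducibleComponent_mem_irreducibleComponents x⟩
    obtain ⟨w, -, hwO, hwU⟩ := Z.2.1.2 O (U Z) hO (U Z).2
      ⟨x, mem_irreducibleComponent, hx⟩ (by obtain ⟨z, h1, h2⟩ := hne Z; exact ⟨z, h2, h1⟩)
    exact ⟨w, hwO, Opens.mem_iSup.2 ⟨Z, hwU⟩⟩
  · intro Z Z' hZZ'
    simp only [Function.onFun]
    rw [← TopologicalSpace.Opens.coe_disjoint]
    refine Set.disjoint_left.2 fun z hz hz' => ?_
    by_cases h1 : irreducibleComponent z = Z.1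
    · exact Set.disjoint_left.1 (hdisj Z' _ (irreducibleComponent_mem_irreducibleComponents z)
        (fun e => hZZ' (Subtype.ext (h1.symm.trans e)))) hz' mem_irreducibleComponent
    · exact Set.disjoint_left.1 (hdisj Z _ (irreducibleComponent_mem_irreducibleComponents z) h1)
        hz mem_irreducibleComponent

section Affine

variable (k) (σ : Type u) [Finite σ]

theorem dim_affineSpace :
    topologicalKrullDim (𝔸(σ; Spec (CommRingCat.of k))) = Nat.card σ := by
  rw [(AffineSpace.SpecIso σ (CommRingCat.of k)).hom.homeomorph.isHomeomorph.topologicalKrullDim_eq]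
  refine Eq.trans (PrimeSpectrum.topologicalKrullDim_eq_ringKrullDim _) ?_
  have := MvPolynomial.ringKrullDim_of_isNoetherianRing (R := k) (ι := σ)
  rw [ringKrullDim_eq_zero_of_field, zero_add] at this
  exact this

end Affine

section Compare

variable {σ : Type u} [Finite σ] (g : X ⟶ 𝔸(σ; Spec (CommRingCat.of k)))
  (hg : g ≫ (𝔸(σ; Spec (CommRingCat.of k)) ↘ Spec (CommRingCat.of k)) = f)

include hg in
theorem le_dim_of_surjective (hs : Function.Surjective g.base) :
    (Nat.card σ : WithBot ℕ∞) ≤ topologicalKrullDim X := by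
  rw [← dim_affineSpace k σ, Groth.Variety2.Dim.dim_eq_iSup_height,
    Groth.Variety2.Dim.dim_eq_iSup_height]
  refine iSup_le fun y => ?_
  obtain ⟨x, rfl⟩ := hs y
  exact le_trans (WithBot.coe_le_coe.2 (Groth.Variety2.Dim.height_image_le f _ g hg x))
    (le_iSup (fun x : X => ((Order.height x : ℕ∞) : WithBot ℕ∞)) x)

theorem dim_le_of_isFinite [IsFinite g] : topologicalKrullDim X ≤ Nat.card σ := by
  rw [← dim_affineSpace k σ, Groth.Variety2.Dim.dim_eq_iSup_height,
    Groth.Variety2.Dim.dim_eq_iSup_height]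
  refine iSup_le fun x => le_trans (WithBot.coe_le_coe.2
    (Order.height_le_height_apply_of_strictMono g.base (fun a b hab => ?_) x))
    (le_iSup (fun y : 𝔸(σ; Spec (CommRingCat.of k)) => ((Order.height y : ℕ∞) : WithBot ℕ∞)) _)
  rw [Groth.Variety2.Dim.lt_iff] at hab ⊢
  refine ⟨hab.1.map g.continuous, fun e => hab.2 ?_⟩
  have : DiscreteTopology (g.base ⁻¹' {g.base b} : Set X) :=
    isDiscrete_iff_discreteTopology.1 (g.isDiscrete_preimage_singleton _)
  by_contra hne
  exact hne (congrArg Subtype.val (show (⟨a, e⟩ : g.base ⁻¹' {g.base b}) = ⟨b, rfl⟩ from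
    (Specializes.eq ((subtype_specializes_iff _ _).2 hab.1 : (⟨b, rfl⟩ : g.base ⁻¹' {g.base b}) ⤳ ⟨a, e⟩)).symm))

end Compare

section Algebra

variable (k) (B : Type u) [CommRing B] [Algebra k B] [Algebra.FiniteType k B] (n : ℕ)

/-- Noether normalization, padded or truncated to `n` variables. -/
theorem exists_algHom :
    ((n : WithBot ℕ∞) ≤ ringKrullDim B → ∃ φ : MvPolynomial (ULift.{u} (Fin n)) k →ₐ[k] B,
      Function.Surjective (PrimeSpectrum.comap φ.toRingHom)) ∧
    (ringKrullDim B ≤ n → ∃ φ : MvPolynomial (ULift.{u} (Fin n)) k →ₐ[k] B, φ.Finite) ∧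
    (ringKrullDim B = n → ∃ φ : MvPolynomial (ULift.{u} (Fin n)) k →ₐ[k] B,
      φ.Finite ∧ Function.Surjective (PrimeSpectrum.comap φ.toRingHom)) := by
  rcases subsingleton_or_nontrivial B with hB | hB
  · rw [ringKrullDim_eq_bot_of_subsingleton]
    refine ⟨fun h => absurd h (by simp), fun _ => ⟨MvPolynomial.aeval 0, ?_⟩,
      fun h => absurd h (by simp)⟩
    exact AlgHom.Finite.of_surjective _ fun b => ⟨0, Subsingleton.elim _ _⟩
  obtain ⟨s, g₀, hinj, hfin⟩ := exists_finite_inj_algHom_of_fg k B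
  let e : MvPolynomial (ULift.{u} (Fin s)) k ≃ₐ[k] MvPolynomial (Fin s) k :=
    MvPolynomial.renameEquiv k Equiv.ulift
  let g : MvPolynomial (ULift.{u} (Fin s)) k →ₐ[k] B := g₀.comp e.toAlgHom
  have hgfin : g.Finite := hfin.comp (AlgHom.Finite.of_surjective _ e.surjective)
  have hginj : Function.Injective g := hinj.comp e.injective
  have hint : g.toRingHom.IsIntegral := RingHom.Finite.to_isIntegral hgfin
  have hgsurj : Function.Surjective (PrimeSpectrum.comap g.toRingHom) :=
    RingHom.IsIntegral.comap_surjective hint hginj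
  have hdim : ringKrullDim B = s := by
    have hh : ringKrullDim B = ringKrullDim (MvPolynomial (Fin s) k) := by
      let := g₀.toRingHom.toAlgebra
      have : Algebra.IsIntegral (MvPolynomial (Fin s) k) B :=
        ⟨(show g₀.toRingHom.Finite from hfin).to_isIntegral⟩
      exact Groth.Variety2.Dim.ringKrullDim_eq_of_isIntegral _ _ hinj
    rw [hh, MvPolynomial.ringKrullDim_of_isNoetherianRing, ringKrullDim_eq_zero_of_field, zero_add]
    simp
  rw [hdim]
  refine ⟨fun h => ?_, fun h => ?_, fun h => ?_⟩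
  · have hns : n ≤ s := by exact_mod_cast h
    let i : MvPolynomial (ULift.{u} (Fin n)) k →ₐ[k] MvPolynomial (ULift.{u} (Fin s)) k :=
      rename (fun j => ULift.up (Fin.castLE hns j.down))
    refine ⟨g.comp i, fun p => ?_⟩
    let r : MvPolynomial (ULift.{u} (Fin s)) k →ₐ[k] MvPolynomial (ULift.{u} (Fin n)) k :=
      aeval fun j => if hj : j.down.val < n then X (ULift.up ⟨j.down.val, hj⟩) else 0
    have hri : r.toRingHom.comp i.toRingHom = RingHom.id _ := by
      have : r.comp i = AlgHom.id k _ := by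
        refine MvPolynomial.algHom_ext fun j => ?_
        simp [r, i]
      exact congrArg AlgHom.toRingHom this
    obtain ⟨q, hq⟩ := hgsurj (PrimeSpectrum.comap r.toRingHom p)
    refine ⟨q, ?_⟩
    change PrimeSpectrum.comap (g.toRingHom.comp i.toRingHom) q = p
    rw [PrimeSpectrum.comap_comp_apply, hq, ← PrimeSpectrum.comap_comp_apply, hri]
    rfl
  · have hsn : s ≤ n := by exact_mod_cast h
    let r : MvPolynomial (ULift.{u} (Fin n)) k →ₐ[k] MvPolynomial (ULift.{u} (Fin s)) k :=
      aeval fun j => if hj : j.down.val < s then X (ULift.up ⟨j.down.val, hj⟩) else 0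
    refine ⟨g.comp r, hgfin.comp (AlgHom.Finite.of_surjective _ fun p => ?_)⟩
    refine ⟨rename (fun j => ULift.up (Fin.castLE hsn j.down)) p, ?_⟩
    have : r.comp (rename (fun j : ULift.{u} (Fin s) => ULift.up (Fin.castLE hsn j.down))) =
        AlgHom.id k _ := by
      refine MvPolynomial.algHom_ext fun j => ?_
      simp [r]
    exact DFunLike.congr_fun this p
  · have hsn : s = n := by exact_mod_cast h
    subst hsn
    exact ⟨g, hgfin, hgsurj⟩

end Algebra

include f in
/-- A dense affine open subscheme of a scheme of finite type over a field, with morphisms to affine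
`n`-space according to the dimension. -/
theorem exists_dense_morphism [NoetherianSpace X] (n : ℕ) :
    ∃ U : X.Opens, Dense (U : Set X) ∧
      ((n : WithBot ℕ∞) ≤ topologicalKrullDim X →
        ∃ g : (U : Scheme.{u}) ⟶ 𝔸(ULift.{u} (Fin n); Spec (CommRingCat.of k)),
          g ≫ (𝔸(ULift.{u} (Fin n); Spec (CommRingCat.of k)) ↘ Spec (CommRingCat.of k)) = U.ι ≫ f ∧
            Function.Surjective g.base) ∧
      (topologicalKrullDim X ≤ n →
        ∃ g : (U : Scheme.{u}) ⟶ 𝔸(ULift.{u} (Fin n); Spec (CommRingCat.of k)),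
          g ≫ (𝔸(ULift.{u} (Fin n); Spec (CommRingCat.of k)) ↘ Spec (CommRingCat.of k)) = U.ι ≫ f ∧
            IsFinite g) ∧
      (topologicalKrullDim X = n →
        ∃ g : (U : Scheme.{u}) ⟶ 𝔸(ULift.{u} (Fin n); Spec (CommRingCat.of k)),
          g ≫ (𝔸(ULift.{u} (Fin n); Spec (CommRingCat.of k)) ↘ Spec (CommRingCat.of k)) = U.ι ≫ f ∧
            IsFinite g ∧ Function.Surjective g.base) := by
  obtain ⟨U, hUd, hU⟩ := exists_dense_affineOpen (X := X)
  obtain ⟨α, hα, hft⟩ := Groth.Variety2.Dim.exists_algebra f hU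
  let := α.hom.toAlgebra
  have : Algebra.FiniteType k Γ(X, U) := hft
  have hdim : ringKrullDim Γ(X, U) = topologicalKrullDim X := by
    rw [← dim_opens_of_dense f U hUd,
      hU.isoSpec.hom.homeomorph.isHomeomorph.topologicalKrullDim_eq]
    exact (PrimeSpectrum.topologicalKrullDim_eq_ringKrullDim _).symm
  let M : (MvPolynomial (ULift.{u} (Fin n)) k →ₐ[k] Γ(X, U)) →
      ((U : Scheme.{u}) ⟶ 𝔸(ULift.{u} (Fin n); Spec (CommRingCat.of k))) := fun φ =>
    hU.isoSpec.hom ≫ Spec.map (CommRingCat.ofHom φ.toRingHom) ≫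
      (AffineSpace.SpecIso (ULift.{u} (Fin n)) (CommRingCat.of k)).inv
  have hM : ∀ φ, M φ ≫ (𝔸(ULift.{u} (Fin n); Spec (CommRingCat.of k)) ↘ Spec (CommRingCat.of k)) =
      U.ι ≫ f := fun φ => by
    have h1 : CommRingCat.ofHom (C : k →+* MvPolynomial (ULift.{u} (Fin n)) k) ≫
        CommRingCat.ofHom φ.toRingHom = α := by
      ext x
      exact φ.commutes x
    simp only [M, Category.assoc, AffineSpace.SpecIso_inv_over, ← Spec.map_comp, h1, hα]
    rw [← Category.assoc, IsAffineOpen.isoSpec_hom_fromSpec]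
  have hfin : ∀ φ : MvPolynomial (ULift.{u} (Fin n)) k →ₐ[k] Γ(X, U), φ.Finite → IsFinite (M φ) := by
    intro φ hφ
    have : IsFinite (Spec.map (CommRingCat.ofHom φ.toRingHom)) := (IsFinite.SpecMap_iff _).2 hφ
    infer_instance
  have hsurj : ∀ φ : MvPolynomial (ULift.{u} (Fin n)) k →ₐ[k] Γ(X, U),
      Function.Surjective (PrimeSpectrum.comap φ.toRingHom) → Function.Surjective (M φ).base := by
    intro φ hφ
    simp only [M, Scheme.Hom.comp_base, TopCat.coe_comp]
    exact ((AffineSpace.SpecIso _ _).inv.homeomorph.surjective.comp hφ).comp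
      hU.isoSpec.hom.homeomorph.surjective
  obtain ⟨h1, h2, h3⟩ := exists_algHom k Γ(X, U) n
  rw [hdim] at h1 h2 h3
  refine ⟨U, hUd, fun h => ?_, fun h => ?_, fun h => ?_⟩
  · obtain ⟨φ, hφ⟩ := h1 h
    exact ⟨M φ, hM φ, hsurj φ hφ⟩
  · obtain ⟨φ, hφ⟩ := h2 h
    exact ⟨M φ, hM φ, hfin φ hφ⟩
  · obtain ⟨φ, hφ, hφ'⟩ := h3 h
    exact ⟨M φ, hM φ, hfin φ hφ, hsurj φ hφ'⟩

end Groth.Ega43Dim
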